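import Groth.Agent.OmegaLib.Der
import Groth.Agent.ArtGlobal29.Basic
import Groth.Prelude.Def_Omega3
import Mathlib.Topology.Sheaves.SheafCondition.Sites

/-!
# Derivations of the structure sheaf given on a basis of the topology
-/

set_option autoImplicit false
set_option backward.isDefEq.respectTransparency.types false
set_option backward.isDefEq.respectTransparency false

universe u

open CategoryTheory AlgebraicGeometry TopologicalSpace Opposite

noncomputable section

namespace Groth.Agent.InfAut29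

open ArtGlobal29

theorem eq_top_of_mem {k : Type u} [Field k] {V : (Spec (CommRingCat.of k)).Opens} {y : Spec (CommRingCat.of k)}
    (hy : y ∈ V) : V = ⊤ := by
  ext z
  simp only [Opens.coe_top, Set.mem_univ, iff_true]
  have : Subsingleton (Spec (CommRingCat.of k)) := inferInstanceAs (Subsingleton (PrimeSpectrum k))
  exact Subsingleton.elim y z ▸ hy

variable {k : Type u} [Field k] {X : Scheme.{u}} (f : X ⟶ Spec (CommRingCat.of k))

theorem exists_der {ι : Type u} (B : ι → X.Opens) (hB : Opens.IsBasis (Set.range B))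
    (δ : ∀ j, Γ(X, B j) →+ Γ(X, B j))
    (hnat : ∀ j j' (h : B j ≤ B j') (s : Γ(X, B j')), δ j (X.presheaf.map (homOfLE h).op s) =
      X.presheaf.map (homOfLE h).op (δ j' s))
    (hmul : ∀ j (a b : Γ(X, B j)), δ j (a * b) = a * δ j b + b * δ j a)
    (hconst : ∀ j (c : k), δ j (strMap f (B j) c) = 0) :
    ∃ D : OmegaSh.Der f (Coh.structureModule X), ∀ j (s : Γ(X, B j)), D.app (B j) s = OmegaSh.strSect X (B j) (δ j s) := by
  let F : TopCat.Presheaf Ab.{u} X.toTopCat := X.presheaf ⋙ forget₂ CommRingCat RingCat ⋙ forget₂ RingCat Ab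
  let G : TopCat.Sheaf Ab.{u} X.toTopCat := ⟨(Coh.structureModule X).presheaf, (Coh.structureModule X).isSheaf⟩
  let α : (inducedFunctor B).op ⋙ F ⟶ (inducedFunctor B).op ⋙ G.1 :=
    { app := fun j => AddCommGrpCat.ofHom ((OmegaSh.strSect X (B j.unop)).comp (δ j.unop))
      naturality := fun j j' g => by
        ext s
        exact congrArg (OmegaSh.strSect X (B j'.unop)) (hnat j'.unop j.unop (leOfHom ((inducedFunctor B).map g.unop)) s) }
  let β := TopCat.Sheaf.restrictHomEquivHom F G hB α
  have hβ : ∀ j (s : Γ(X, B j)), (β.app (op (B j))).hom s = OmegaSh.strSect X (B j) (δ j s) := fun j s => by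
    show ((TopCat.Sheaf.restrictHomEquivHom F G hB α).app (op (B j))).hom s = _
    rw [TopCat.Sheaf.extend_hom_app]
    rfl
  have hmap : ∀ {U V : X.Opens} (h : U ≤ V) (s : Γ(X, V)), (β.app (op U)).hom (X.presheaf.map (homOfLE h).op s) =
      (Coh.structureModule X).presheaf.map (homOfLE h).op ((β.app (op V)).hom s) :=
    fun h s => ConcreteCategory.congr_hom (β.naturality (homOfLE h).op) s
  refine ⟨PresheafOfModules.Derivation.mk (fun {U} => (β.app U).hom) ?_ ?_ ?_, fun j s => hβ j s⟩
  · rintro ⟨U⟩ a b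
    refine OmegaLib.section_ext (F := Coh.structureModule X) (U := U) fun y hy => ?_
    obtain ⟨_, ⟨j, rfl⟩, hyj, hjU⟩ := Opens.isBasis_iff_nbhd.mp hB hy
    refine ⟨B j, hjU, hyj, ?_⟩
    change (Coh.structureModule X).presheaf.map (homOfLE hjU).op ((β.app (op U)).hom (a * b)) =
      (Coh.structureModule X).presheaf.map (homOfLE hjU).op
        ((a • (show Γ(Coh.structureModule X, U) from (β.app (op U)).hom b) : Γ(Coh.structureModule X, U)) +
          b • (show Γ(Coh.structureModule X, U) from (β.app (op U)).hom a))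
    rw [map_add, Scheme.Modules.map_smul, Scheme.Modules.map_smul, ← hmap, ← hmap, ← hmap, map_mul, hβ, hβ, hβ,
      hmul, map_add]
    rfl
  · intro U V g s
    exact ConcreteCategory.congr_hom (β.naturality g) s
  · rintro ⟨V⟩ c
    refine OmegaLib.section_ext (F := Coh.structureModule X) (U := f ⁻¹ᵁ V) fun y hy => ?_
    obtain rfl := eq_top_of_mem (show f y ∈ V from hy)
    obtain ⟨_, ⟨j, rfl⟩, hyj, hjU⟩ := Opens.isBasis_iff_nbhd.mp hB hy
    refine ⟨B j, hjU, hyj, ?_⟩
    change (Coh.structureModule X).presheaf.map (homOfLE hjU).op ((β.app (op (f ⁻¹ᵁ ⊤))).hom (f.app ⊤ c)) = _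
    rw [← hmap, hβ, map_zero]
    have : X.presheaf.map (homOfLE hjU).op (f.app ⊤ c) =
        strMap f (B j) ((Scheme.ΓSpecIso (CommRingCat.of k)).hom c) := by
      show _ = (f.appLE ⊤ (B j) _) ((Scheme.ΓSpecIso (CommRingCat.of k)).inv ((Scheme.ΓSpecIso (CommRingCat.of k)).hom c))
      rw [← CommRingCat.comp_apply (Scheme.ΓSpecIso (CommRingCat.of k)).hom, Iso.hom_inv_id]
      rfl
    rw [this, hconst, map_zero]

end Groth.Agent.InfAut29
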