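import Groth.Agent.InfAut29.Alg
import Groth.Agent.InfAut29.Basis
import Groth.Agent.S5005
import Groth.Prelude.Def_Omega4

/-!
# Automorphisms of deformations of schemes without vector fields are trivial
-/

set_option autoImplicit false
set_option backward.isDefEq.respectTransparency.types false
set_option backward.isDefEq.respectTransparency false

universe u

open CategoryTheory CategoryTheory.Limits AlgebraicGeometry TopologicalSpace Opposite TensorProduct IsLocalRing

noncomputable section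

namespace Groth.Agent.InfAut29

open ArtGlobal29 DeformSqZero

variable {k : Type u} [Field k] {X : Scheme.{u}} {x : X ⟶ Spec (CommRingCat.of k)}
  {A : Type u} [CommRing A] [IsLocalRing A] {r : A →+* k} (hr : Function.Surjective r)
  {T : Scheme.{u}} {g : T ⟶ Spec (CommRingCat.of A)} {i : X ⟶ T}
  (hsq : IsPullback i x g (Spec.map (CommRingCat.ofHom r)))

include hr in
theorem ker_eq : RingHom.ker r = maximalIdeal A :=
  IsLocalRing.eq_maximalIdeal (RingHom.ker_isMaximal_of_surjective r hr)

include hr hsq in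
theorem isClosedImmersion_i : IsClosedImmersion i := by
  have : IsClosedImmersion (Spec.map (CommRingCat.ofHom r)) := IsClosedImmersion.spec_of_surjective _ hr
  exact MorphismProperty.of_isPullback hsq.flip this

include hsq in
theorem surjective_i [IsArtinianRing A] : Surjective i := by
  have : Surjective (Spec.map (CommRingCat.ofHom r)) := ⟨fun p => by
    have : Subsingleton (Spec (CommRingCat.of A)) := inferInstanceAs (Subsingleton (PrimeSpectrum A))
    exact ⟨(default : PrimeSpectrum k), Subsingleton.elim _ _⟩⟩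
  exact MorphismProperty.of_isPullback hsq.flip this

theorem strMap_comp {C D : Type u} [CommRing C] [CommRing D] (φ : C →+* D) {Y : Scheme.{u}}
    (f : Y ⟶ Spec (CommRingCat.of D)) (U : Y.Opens) (c : C) :
    strMap (f ≫ Spec.map (CommRingCat.ofHom φ)) U c = strMap f U (φ c) := by
  have h : (Scheme.ΓSpecIso (CommRingCat.of C)).inv ≫
      (f ≫ Spec.map (CommRingCat.ofHom φ)).appLE ⊤ U (top_le_preimage _ U) =
        CommRingCat.ofHom φ ≫ (Scheme.ΓSpecIso (CommRingCat.of D)).inv ≫ f.appLE ⊤ U (top_le_preimage f U) := by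
    rw [Scheme.Hom.comp_appLE, Scheme.ΓSpecIso_inv_naturality_assoc]
    rfl
  exact congrArg (fun ψ => CommRingCat.Hom.hom ψ c) h

include hr hsq in
theorem quot_square : ∃ e : A ⧸ maximalIdeal A →+* k, (∀ a, e (Ideal.Quotient.mk _ a) = r a) ∧
    ∃ f₀ : X ⟶ Spec (CommRingCat.of (A ⧸ maximalIdeal A)), f₀ = x ≫ Spec.map (CommRingCat.ofHom e) ∧
      IsPullback i f₀ g (Spec.map (CommRingCat.ofHom (Ideal.Quotient.mk (maximalIdeal A)))) := by
  let e : A ⧸ maximalIdeal A ≃+* k :=
    (Ideal.quotEquivOfEq (ker_eq hr).symm).trans (RingHom.quotientKerEquivOfSurjective hr)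
  refine ⟨e.toRingHom, fun a => rfl, _, rfl, ?_⟩
  have : IsIso (CommRingCat.ofHom e.toRingHom) := (e.toCommRingCatIso).isIso_hom
  have h : Spec.map (CommRingCat.ofHom r) =
      Spec.map (CommRingCat.ofHom e.toRingHom) ≫ Spec.map (CommRingCat.ofHom (Ideal.Quotient.mk (maximalIdeal A))) := by
    rw [← Spec.map_comp]
    exact congrArg Spec.map (CommRingCat.hom_ext (RingHom.ext fun a => rfl))
  refine IsPullback.of_iso hsq (Iso.refl _) (Iso.refl _) (asIso (Spec.map (CommRingCat.ofHom e.toRingHom)))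
    (Iso.refl _) ?_ ?_ ?_ ?_
  · simp
  · simp
  · simp
  · simp [h]

include hr hsq in
theorem i_app_strMap (U : T.Opens) (a : A) : i.app U (strMap g U a) = strMap x (i ⁻¹ᵁ U) (r a) := by
  obtain ⟨e, he, f₀, rfl, hsq'⟩ := quot_square hr hsq
  rw [app_strMap g X i _ hsq', strMap_comp, he]

include hr hsq in
theorem ker_i_app {U : T.Opens} (hU : IsAffineOpen U) :
    RingHom.ker (i.app U).hom = (maximalIdeal A).map (strMap g U) := by
  obtain ⟨e, he, f₀, rfl, hsq'⟩ := quot_square hr hsq
  exact ker_app g X i _ hsq' hU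

variable [IsArtinianRing A] [Flat g]

include hr hsq in
theorem eq_id [QuasiSeparated x] (h0 : Subsingleton (Omega.sheaf x ⟶ Coh.structureModule X))
    (e : T ⟶ T) (hef : e ≫ g = g) (hie : i ≫ e = i) : e = 𝟙 T := by
  have hci := isClosedImmersion_i hr hsq
  have hsurj := surjective_i hsq
  have hfix : ∀ t : T, e t = t := fun t => by
    obtain ⟨y, rfl⟩ := hsurj.surj t
    exact congrArg (fun φ : X ⟶ T => φ y) hie
  have hU : ∀ U : T.Opens, U ≤ e ⁻¹ᵁ U := fun U t ht => by
    show e t ∈ U
    rwa [hfix]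
  have hres : ∀ {U V : T.Opens} (h : U ≤ V) (s : Γ(T, V)),
      T.presheaf.map (homOfLE h).op (e.appLE V V (hU V) s) = e.appLE U U (hU U) (T.presheaf.map (homOfLE h).op s) := by
    intro U V h s
    rw [← CommRingCat.comp_apply, ← CommRingCat.comp_apply, Scheme.Hom.appLE_map, Scheme.Hom.map_appLE]
  have hC : ∀ (U : T.Opens) (a : A), e.appLE U U (hU U) (strMap g U a) = strMap g U a := by
    intro U a
    show (g.appLE ⊤ U _ ≫ e.appLE U U (hU U)) ((Scheme.ΓSpecIso (CommRingCat.of A)).inv a) = _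
    rw [Scheme.Hom.appLE_comp_appLE]
    simp only [hef]
    rfl
  have hq : ∀ (U : T.Opens) (s : Γ(T, U)), i.app U (e.appLE U U (hU U) s) = i.app U s := by
    intro U s
    rw [Scheme.Hom.app_eq_appLE, ← CommRingCat.comp_apply, Scheme.Hom.appLE_comp_appLE]
    simp only [hie]
  have hbasis : Opens.IsBasis (Set.range fun U : T.affineOpens => i ⁻¹ᵁ U.1) := by
    rw [Opens.isBasis_iff_nbhd]
    intro W y hy
    obtain ⟨O, hO, hOW⟩ := hci.base_closed.isEmbedding.isInducing.isOpen_iff.1 W.isOpen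
    have hyO : i y ∈ (⟨O, hO⟩ : T.Opens) := by
      show i y ∈ O
      have := hOW.symm ▸ (show y ∈ (W : Set X) from hy)
      exact this
    obtain ⟨U, hUa, hyU, hUO⟩ := Opens.isBasis_iff_nbhd.mp T.isBasis_affineOpens hyO
    exact ⟨_, ⟨⟨U, hUa⟩, rfl⟩, hyU, fun z hz => (congrArg (z ∈ ·) hOW).mp (hUO hz)⟩
  have hd : ∀ (D : OmegaSh.Der x (Coh.structureModule X)) (W : X.Opens) (s : Γ(X, W)), D.app W s = 0 := by
    intro D W s
    obtain ⟨θ, hθ, -⟩ := S5005.result x (Coh.structureModule X) D
    rw [← hθ, Subsingleton.elim θ 0]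
    rfl
  have step : ∀ n : ℕ, ∀ U : T.affineOpens, ∀ b : Γ(T, U.1),
      e.appLE U.1 U.1 (hU U.1) b - b ∈ (maximalIdeal A ^ (n + 1)).map (strMap g U.1) := by
    intro n
    induction n with
    | zero =>
      intro U b
      rw [zero_add, pow_one, ← ker_i_app hr hsq U.2, RingHom.mem_ker, map_sub, sub_eq_zero]
      exact hq _ b
    | succ n ih =>
      let alg : ∀ U : T.affineOpens, Algebra A Γ(T, U.1) := fun U => (strMap g U.1).toAlgebra
      have hflat : ∀ U : T.affineOpens, Module.Flat A Γ(T, U.1) := fun U => flat_strMap g U.2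
      let φ : ∀ U : T.affineOpens, Γ(T, U.1) →ₐ[A] Γ(T, U.1) := fun U =>
        { (e.appLE U.1 U.1 (hU U.1)).hom with commutes' := fun a => hC U.1 a }
      let ψ : ∀ (U V : T.affineOpens), U.1 ≤ V.1 → (Γ(T, V.1) →ₐ[A] Γ(T, U.1)) := fun U V h =>
        { (T.presheaf.map (homOfLE h).op).hom with commutes' := fun a => res_strMap g h a }
      have hker : ∀ U : T.affineOpens,
          RingHom.ker (i.app U.1).hom = (maximalIdeal A).map (algebraMap A Γ(T, U.1)) := fun U => ker_i_app hr hsq U.2
      choose δ hδmul hδalg hδ using fun (U : T.affineOpens) (l : ↥(maximalIdeal A ^ (n + 1)) →ₗ[A] A ⧸ maximalIdeal A) =>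
        exists_delta (i.app U.1).hom (hker U).ge l (i.app_surjective U.1 U.2) (hker U).le (φ U) (fun b => hq _ b)
          (fun b => ih U b)
      intro U b
      obtain ⟨z, hz⟩ := range_mulMap (maximalIdeal A ^ (n + 1)) Γ(T, U.1) _ (ih U b)
      rw [← hz, pow_succ']
      refine mem_step (i.app U.1).hom (hker U).ge (hker U).le z fun l => ?_
      rw [← hδ U l b z hz]
      have hnat : ∀ (V V' : T.affineOpens) (h : i ⁻¹ᵁ V.1 ≤ i ⁻¹ᵁ V'.1) (s : Γ(X, i ⁻¹ᵁ V'.1)),
          δ V l (X.presheaf.map (homOfLE h).op s) = X.presheaf.map (homOfLE h).op (δ V' l s) := by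
        intro V V' h s
        have hVV : V.1 ≤ V'.1 := fun t ht => by
          obtain ⟨y, rfl⟩ := hsurj.surj t
          exact h ht
        obtain ⟨b', rfl⟩ := i.app_surjective V'.1 V'.2 s
        have hc : ∀ c, X.presheaf.map (homOfLE h).op (i.app V'.1 c) = i.app V.1 (ψ V V' hVV c) := fun c =>
          (ConcreteCategory.congr_hom (i.naturality (homOfLE hVV).op) c).symm
        rw [hc]
        obtain ⟨w, hw⟩ := range_mulMap (maximalIdeal A ^ (n + 1)) Γ(T, V'.1) _ (ih V' b')
        obtain ⟨w', hw1, hw2⟩ := natural (i.app V'.1).hom (hker V').ge l (i.app V.1).hom (hker V).ge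
          (ψ V V' hVV) (X.presheaf.map (homOfLE h).op).hom hc w
        rw [hδ V' l b' w hw, hδ V l (ψ V V' hVV b') w' ?_, hw2]
        rw [hw1, hw, map_sub]
        congr 1
        exact hres hVV b'
      obtain ⟨D, hD⟩ := exists_der x (fun V : T.affineOpens => i ⁻¹ᵁ V.1) hbasis (fun V => δ V l) hnat
        (fun V => hδmul V l) (fun V c => by
          obtain ⟨a, rfl⟩ := hr c
          rw [← i_app_strMap hr hsq]
          exact hδalg V l a)
      exact congrArg (OmegaSh.fnSect X (i ⁻¹ᵁ U.1)) ((hD U (i.app U.1 b)).symm.trans (hd D _ _))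
  obtain ⟨N, hN⟩ := IsArtinianRing.isNilpotent_jacobson_bot (R := A)
  rw [IsLocalRing.jacobson_eq_maximalIdeal ⊥ bot_ne_top] at hN
  have happ : ∀ (U : T.affineOpens) (b : Γ(T, U.1)), e.appLE U.1 U.1 (hU U.1) b = b := fun U b => by
    have := step N U b
    rw [pow_succ, hN, zero_mul, Ideal.zero_eq_bot, Ideal.map_bot, Submodule.mem_bot, sub_eq_zero] at this
    exact this
  refine Scheme.Cover.hom_ext (T.openCoverOfIsOpenCover (fun U : T.affineOpens => U.1) ?_) _ _ fun U => ?_
  · exact iSup_affineOpens_eq_top T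
  · show U.1.ι ≫ e = U.1.ι ≫ 𝟙 T
    rw [Category.comp_id]
    have := e.resLE_comp_ι (hU U.1)
    rw [← this]
    have h2 : e.resLE U.1 U.1 (hU U.1) = 𝟙 _ := by
      have : IsAffine U.1.toScheme := U.2
      refine ext_of_isAffine ?_
      rw [Scheme.Hom.id_appTop]
      ext b
      simp only [Scheme.Hom.resLE_app_top, CommRingCat.comp_apply, happ, CommRingCat.id_apply]
      rw [← CommRingCat.comp_apply, Iso.hom_inv_id]
      rfl
    rw [h2, Category.id_comp]

end Groth.Agent.InfAut29
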