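import Groth.Agent.InfAut29.DualTwist
import Groth.Prelude.Def_ArtFun4

/-!
# A scheme whose trivial first order deformation has no automorphisms has no vector fields
-/

set_option autoImplicit false
set_option backward.isDefEq.respectTransparency.types false
set_option backward.isDefEq.respectTransparency false

universe u

open CategoryTheory CategoryTheory.Limits AlgebraicGeometry TopologicalSpace Opposite IsLocalRing ArtFun

noncomputable section

namespace Groth.Agent.InfAut29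

open ArtGlobal29

variable {k : Type u} [Field k] {X : Scheme.{u}} (x : X ⟶ Spec (CommRingCat.of k))

/-- The trivial first order deformation. -/
def trivialDual : DefSch X x (Art.dual k k) :=
  DefSch.baseChange (A := Art.base k k) ⟨X, x, inferInstance, 𝟙 X, IsPullback.of_horiz_isIso ⟨by simp [Art.comp_specRes_base]⟩⟩
    (Art.ofBase (Art.dual k k))

theorem subsingleton_hom_of_rigid [QuasiSeparated x]
    (H : ∀ e : (trivialDual x).Iso (trivialDual x), e.iso.hom = 𝟙 _) :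
    Subsingleton (Omega.sheaf x ⟶ Coh.structureModule X) := by
  refine ⟨fun θ θ' => sub_eq_zero.1 ?_⟩
  generalize θ - θ' = η
  refine OmegaLib.hom_ext_of_isUniversal (S5005.result x) fun U₀ s₀ => ?_
  let D : OmegaSh.Der x (Coh.structureModule X) := (OmegaSh.dOmega x).postcomp η.val
  show D.app U₀ s₀ = 0
  let q : (trivialDual x).total ⟶ X := pullback.fst x (Art.specMap (Art.ofBase (Art.dual k k)))
  let g := (trivialDual x).f
  let i := (trivialDual x).i
  have hiq : i ≫ q = 𝟙 X := pullback.lift_fst _ _ _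
  have hqx : q ≫ x = g ≫ Art.specMap (Art.ofBase (Art.dual k k)) := pullback.condition
  have haff : IsAffineHom q := MorphismProperty.pullback_fst (P := @IsAffineHom) _ _ inferInstance
  have hiU : ∀ U : X.Opens, U ≤ i ⁻¹ᵁ (q ⁻¹ᵁ U) := fun U => by
    rw [← Scheme.Hom.comp_preimage]; simp only [hiq]; exact le_rfl
  have hir : ∀ (U : X.Opens) (a : Art.dual k k), i.appLE (q ⁻¹ᵁ U) U (hiU U) (strMap g (q ⁻¹ᵁ U) a) =
      strMap x U ((Art.dual k k).res a) := by
    intro U a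
    have h := i_app_strMap (Art.dual k k).res_surjective (trivialDual x).isPullback (q ⁻¹ᵁ U) a
    have h' := congrArg (X.presheaf.map (homOfLE (hiU U)).op) h
    rw [res_strMap, ← CommRingCat.comp_apply] at h'
    exact h'
  let ε : ∀ U : X.Opens, Γ((trivialDual x).total, q ⁻¹ᵁ U) := fun U =>
    strMap g (q ⁻¹ᵁ U) (show Art.dual k k from (DualNumber.eps : DualNumber k))
  have hεε : ∀ U, ε U * ε U = 0 := fun U => by
    show strMap g _ _ * strMap g _ _ = 0
    rw [← map_mul]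
    exact (congrArg (strMap g (q ⁻¹ᵁ U)) (DualNumber.eps_mul_eps : (DualNumber.eps : DualNumber k) * _ = 0)).trans (map_zero _)
  have hiε : ∀ U, i.appLE (q ⁻¹ᵁ U) U (hiU U) (ε U) = 0 := fun U => by
    rw [hir]
    exact (congrArg (strMap x U) (TrivSqZeroExt.fst_inr k (1 : k))).trans (map_zero _)
  have hiqU : ∀ (U : X.Opens) (s : Γ(X, U)), i.appLE (q ⁻¹ᵁ U) U (hiU U) (q.app U s) = s := fun U s => by
    rw [Scheme.Hom.app_eq_appLE, ← CommRingCat.comp_apply, Scheme.Hom.appLE_comp_appLE]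
    simp only [hiq]
    rw [Scheme.Hom.appLE, Scheme.Hom.id_app]
    erw [Category.id_comp]
    exact ConcreteCategory.congr_hom (X.presheaf.map_id (op U)) s
  have hqc : ∀ (U : X.Opens) (c : k), q.app U (strMap x U c) = strMap g (q ⁻¹ᵁ U) (algebraMap k (DualNumber k) c) := by
    intro U c
    rw [Scheme.Hom.app_eq_appLE]
    show (x.appLE ⊤ U _ ≫ q.appLE U (q ⁻¹ᵁ U) _) ((Scheme.ΓSpecIso (CommRingCat.of k)).inv c) = _
    rw [Scheme.Hom.appLE_comp_appLE]
    refine Eq.trans ?_ (strMap_comp (algebraMap k (DualNumber k)) g (q ⁻¹ᵁ U) c)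
    simp only [hqx]
    rfl
  let δ : ∀ U : X.affineOpens, Γ(X, U.1) →+ Γ(X, U.1) := fun U => (OmegaSh.fnSect X U.1).comp (D.app U.1)
  have hδmul : ∀ (U : X.affineOpens) a b, δ U (a * b) = a * δ U b + b * δ U a := fun U a b =>
    congrArg (OmegaSh.fnSect X U.1) (OmegaLib.app_mul D U.1 a b)
  have hδconst : ∀ (U : X.affineOpens) (c : k), δ U (strMap x U.1 c) = 0 := fun U c =>
    congrArg (OmegaSh.fnSect X U.1) (OmegaLib.app_appLE D (top_le_preimage x U.1) _)
  have hδres : ∀ (U V : X.affineOpens) (h : U.1 ≤ V.1) s,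
      δ U (X.presheaf.map (homOfLE h).op s) = X.presheaf.map (homOfLE h).op (δ V s) := fun U V h s =>
    congrArg (OmegaSh.fnSect X U.1) (OmegaLib.app_map D h s)
  let σ : k → ∀ U : X.affineOpens, Γ(X, U.1) ⟶ Γ((trivialDual x).total, q ⁻¹ᵁ U.1) := fun c U => CommRingCat.ofHom
    { toFun := fun s => q.app U.1 s + strMap g (q ⁻¹ᵁ U.1) (algebraMap k (DualNumber k) c) * ε U.1 * q.app U.1 (δ U s)
      map_zero' := by simp
      map_one' := by
        have : δ U 1 = 0 := congrArg (OmegaSh.fnSect X U.1) (OmegaLib.app_one D U.1)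
        simp [this]
      map_add' := fun a b => by rw [map_add, map_add, map_add]; ring
      map_mul' := fun a b => by
        rw [hδmul, map_add, map_mul, map_mul, map_mul]
        linear_combination -(strMap g (q ⁻¹ᵁ U.1) (algebraMap k (DualNumber k) c) ^ 2 *
          q.app U.1 (δ U a) * q.app U.1 (δ U b)) * hεε U.1 }
  have hσ_apply : ∀ c (U : X.affineOpens) s, σ c U s =
      q.app U.1 s + strMap g (q ⁻¹ᵁ U.1) (algebraMap k (DualNumber k) c) * ε U.1 * q.app U.1 (δ U s) := fun _ _ _ => rfl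
  have hσ : ∀ c (U V : X.affineOpens) (h : U.1 ≤ V.1),
      σ c V ≫ (trivialDual x).total.presheaf.map (homOfLE (q.preimage_mono h)).op = X.presheaf.map (homOfLE h).op ≫ σ c U := by
    intro c U V h
    ext s
    have hn : ∀ t, (trivialDual x).total.presheaf.map (homOfLE (q.preimage_mono h)).op (q.app V.1 t) =
        q.app U.1 (X.presheaf.map (homOfLE h).op t) := fun t => (ConcreteCategory.congr_hom (q.naturality (homOfLE h).op) t).symm
    show (trivialDual x).total.presheaf.map _ (σ c V s) = σ c U (X.presheaf.map _ s)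
    rw [hσ_apply, hσ_apply, map_add, map_mul, map_mul, hn, hn, hδres U V h, res_strMap, res_strMap]
  choose G hG using fun c => exists_glue q (σ c) (hσ c)
  have hle : ∀ c (U : X.affineOpens), q ⁻¹ᵁ U.1 ≤ G c ⁻¹ᵁ U.1 := fun c U => preimage_le_of_chart q (σ c) (hG c U)
  have happ : ∀ c (U : X.affineOpens), (G c).appLE U.1 (q ⁻¹ᵁ U.1) (hle c U) = σ c U := fun c U =>
    appLE_of_chart q (σ c) (hG c U) _
  -- equality of morphisms out of the total space is checked on ring maps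
  have hext : ∀ (f₁ f₂ : (trivialDual x).total ⟶ X)
      (h₁ : ∀ U : X.affineOpens, q ⁻¹ᵁ U.1 ≤ f₁ ⁻¹ᵁ U.1) (h₂ : ∀ U : X.affineOpens, q ⁻¹ᵁ U.1 ≤ f₂ ⁻¹ᵁ U.1),
      (∀ (U : X.affineOpens) s, f₁.appLE U.1 _ (h₁ U) s = f₂.appLE U.1 _ (h₂ U) s) → f₁ = f₂ := by
    intro f₁ f₂ h₁ h₂ hh
    refine comp_eq_of_charts q f₁ f₂ fun U => ?_
    rw [← cancel_epi (U.2.preimage q).isoSpec.inv, ← Category.assoc, ← Category.assoc]
    show (U.2.preimage q).fromSpec ≫ f₁ = (U.2.preimage q).fromSpec ≫ f₂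
    rw [← IsAffineOpen.SpecMap_appLE_fromSpec f₁ U.2 _ (h₁ U), ← IsAffineOpen.SpecMap_appLE_fromSpec f₂ U.2 _ (h₂ U),
      CommRingCat.hom_ext (RingHom.ext fun s => hh U s)]
  have hGx : ∀ c, G c ≫ x = g ≫ Art.specMap (Art.ofBase (Art.dual k k)) := by
    intro c
    refine ext_of_isAffine ?_
    rw [← cancel_epi (Scheme.ΓSpecIso (CommRingCat.of k)).inv]
    ext a
    simp only [CommRingCat.comp_apply, Scheme.Hom.appTop]
    refine TopCat.Sheaf.eq_of_locally_eq' (trivialDual x).total.sheaf (fun U : X.affineOpens => q ⁻¹ᵁ U.1) _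
      (fun U => homOfLE le_top) (iSup_preimage_affineOpens q).ge _ _ fun U => ?_
    change ((G c ≫ x).appLE ⊤ (q ⁻¹ᵁ U.1) (top_le_preimage _ _)) ((Scheme.ΓSpecIso (CommRingCat.of k)).inv a) =
      ((g ≫ Art.specMap (Art.ofBase (Art.dual k k))).appLE ⊤ (q ⁻¹ᵁ U.1) (top_le_preimage _ _))
        ((Scheme.ΓSpecIso (CommRingCat.of k)).inv a)
    rw [← Scheme.Hom.appLE_comp_appLE (G c) x ⊤ U.1 (q ⁻¹ᵁ U.1) (top_le_preimage x U.1) (hle c U), CommRingCat.comp_apply, happ]
    change σ c U (strMap x U.1 a) = strMap (g ≫ Spec.map (CommRingCat.ofHom (algebraMap k (DualNumber k)))) _ a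
    rw [hσ_apply, hδconst, map_zero, mul_zero, add_zero, hqc, strMap_comp]
    rfl
  let E : k → ((trivialDual x).total ⟶ (trivialDual x).total) := fun c => pullback.lift (G c) g (hGx c)
  have hEq : ∀ c, E c ≫ q = G c := fun c => pullback.lift_fst _ _ _
  have hEg : ∀ c, E c ≫ g = g := fun c => pullback.lift_snd _ _ _
  have hEC : ∀ c (U : X.affineOpens) (e : q ⁻¹ᵁ U.1 ≤ E c ⁻¹ᵁ (q ⁻¹ᵁ U.1)) a,
      (E c).appLE (q ⁻¹ᵁ U.1) (q ⁻¹ᵁ U.1) e (strMap g (q ⁻¹ᵁ U.1) a) = strMap g (q ⁻¹ᵁ U.1) a := by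
    intro c U e a
    show (g.appLE ⊤ (q ⁻¹ᵁ U.1) _ ≫ (E c).appLE _ _ e) ((Scheme.ΓSpecIso (CommRingCat.of (DualNumber k))).inv a) = _
    rw [Scheme.Hom.appLE_comp_appLE]
    simp only [hEg]
    rfl
  have hEU : ∀ c (U : X.affineOpens), q ⁻¹ᵁ U.1 ≤ E c ⁻¹ᵁ (q ⁻¹ᵁ U.1) := fun c U => by
    rw [← Scheme.Hom.comp_preimage]; simp only [hEq]; exact hle c U
  have hEs : ∀ c (U : X.affineOpens) s, (E c).appLE (q ⁻¹ᵁ U.1) (q ⁻¹ᵁ U.1) (hEU c U) (q.app U.1 s) = σ c U s := by
    intro c U s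
    rw [Scheme.Hom.app_eq_appLE, ← CommRingCat.comp_apply, Scheme.Hom.appLE_comp_appLE]
    simp only [hEq, happ]
  have hinv : ∀ c c', c + c' = 0 → E c ≫ E c' = 𝟙 _ := by
    intro c c' hc
    refine pullback.hom_ext ?_ ?_
    · show (E c ≫ E c') ≫ q = 𝟙 _ ≫ q
      rw [Category.assoc, hEq, Category.id_comp]
      refine hext _ _ (fun U => ?_) (fun U => le_rfl) fun U s => ?_
      · rw [Scheme.Hom.comp_preimage]; exact (hEU c U).trans (Scheme.Hom.preimage_mono _ (hle c' U))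
      · rw [← Scheme.Hom.appLE_comp_appLE (E c) (G c') U.1 (q ⁻¹ᵁ U.1) (q ⁻¹ᵁ U.1) (hle c' U) (hEU c U),
          CommRingCat.comp_apply, happ, hσ_apply, map_add, map_mul, map_mul, hEs, hEs, hEC, hEC, hσ_apply, hσ_apply,
          ← Scheme.Hom.app_eq_appLE]
        have hcc : strMap g (q ⁻¹ᵁ U.1) (algebraMap k (DualNumber k) c) +
            strMap g (q ⁻¹ᵁ U.1) (algebraMap k (DualNumber k) c') = 0 := by
          refine (map_add (strMap g (q ⁻¹ᵁ U.1)) _ _).symm.trans ?_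
          exact (congrArg (strMap g (q ⁻¹ᵁ U.1)) (((map_add (algebraMap k (DualNumber k)) c c').symm).trans (by rw [hc, map_zero]))).trans (map_zero _)
        linear_combination ε U.1 * q.app U.1 (δ U s) * hcc +
          strMap g (q ⁻¹ᵁ U.1) (algebraMap k (DualNumber k) c) * strMap g (q ⁻¹ᵁ U.1) (algebraMap k (DualNumber k) c') *
            q.app U.1 (δ U (δ U s)) * hεε U.1
    · show (E c ≫ E c') ≫ g = 𝟙 _ ≫ g
      rw [Category.assoc, hEg, hEg, Category.id_comp]
  have hiG : i ≫ G 1 = 𝟙 X := by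
    refine Scheme.Cover.hom_ext (X.openCoverOfIsOpenCover (fun U : X.affineOpens => U.1) (iSup_affineOpens_eq_top X)) _ _ fun U => ?_
    show U.1.ι ≫ i ≫ G 1 = U.1.ι ≫ 𝟙 X
    have e : U.1 ≤ (i ≫ G 1) ⁻¹ᵁ U.1 := (hiU U.1).trans (Scheme.Hom.preimage_mono _ (hle 1 U))
    rw [← cancel_epi U.2.isoSpec.inv, ← Category.assoc, ← Category.assoc U.2.isoSpec.inv]
    show U.2.fromSpec ≫ i ≫ G 1 = U.2.fromSpec ≫ 𝟙 X
    rw [← IsAffineOpen.SpecMap_appLE_fromSpec (i ≫ G 1) U.2 U.2 e, Category.comp_id]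
    have : (i ≫ G 1).appLE U.1 U.1 e = 𝟙 _ := by
      rw [← Scheme.Hom.appLE_comp_appLE i (G 1) U.1 (q ⁻¹ᵁ U.1) U.1 (hle 1 U) (hiU U.1), happ]
      ext s
      rw [CommRingCat.comp_apply, hσ_apply, map_add, map_mul, map_mul, hiε, mul_zero, zero_mul, add_zero, hiqU]
      rfl
    rw [this, Spec.map_id, Category.id_comp]
  have hiE : i ≫ E 1 = i := by
    refine pullback.hom_ext ?_ ?_
    · show (i ≫ E 1) ≫ q = i ≫ q
      rw [Category.assoc, hEq, hiG, hiq]
    · show (i ≫ E 1) ≫ g = i ≫ g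
      rw [Category.assoc, hEg]
  have hid : E 1 = 𝟙 _ :=
    H ⟨⟨E 1, E (-1), hinv _ _ (by ring), hinv _ _ (by ring)⟩, hEg 1, hiE⟩
  have hG1 : G 1 = q := by rw [← hEq, hid, Category.id_comp]
  have hzero : ∀ (U : X.affineOpens) s, δ U s = 0 := by
    intro U s
    have h1 : σ 1 U s = q.app U.1 s := by
      rw [← happ]
      simp only [hG1, ← Scheme.Hom.app_eq_appLE]
    rw [hσ_apply, map_one, map_one, one_mul] at h1
    have h2 : ε U.1 * q.app U.1 (δ U s) = 0 := by linear_combination h1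
    letI : Algebra (DualNumber k) Γ((trivialDual x).total, q ⁻¹ᵁ U.1) := (strMap g (q ⁻¹ᵁ U.1)).toAlgebra
    haveI : Module.Flat (DualNumber k) Γ((trivialDual x).total, q ⁻¹ᵁ U.1) := flat_strMap g (U.2.preimage q)
    have h3 := mem_map_of_mul_mem (J := (⊥ : Ideal (DualNumber k))) (e := DualNumber.eps) (fun c hc => ?_)
      (q.app U.1 (δ U s)) (by rw [Ideal.map_bot]; exact h2)
    · have hk := ker_i_app (Art.dual k k).res_surjective (trivialDual x).isPullback (U.2.preimage q)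
      replace h3 : i.app (q ⁻¹ᵁ U.1) (q.app U.1 (δ U s)) = 0 := RingHom.mem_ker.1 (hk.ge h3)
      rw [← hiqU U.1 (δ U s)]
      have := congrArg (X.presheaf.map (homOfLE (hiU U.1)).op) h3
      rw [map_zero, ← CommRingCat.comp_apply] at this
      exact this
    · rw [Ideal.mem_bot] at hc
      have h4 := congrArg TrivSqZeroExt.snd hc
      simp at h4
      by_contra hcu
      have hu : IsUnit c := by simpa using hcu
      exact (TrivSqZeroExt.isUnit_iff_isUnit_fst.1 hu).ne_zero h4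
  obtain ⟨W, hW⟩ : ∃ W : X.Opens, W = U₀ := ⟨_, rfl⟩
  refine OmegaLib.section_ext fun y hy => ?_
  obtain ⟨V, hV, hyV, hVU⟩ := Opens.isBasis_iff_nbhd.mp X.isBasis_affineOpens hy
  refine ⟨V, hVU, hyV, ?_⟩
  rw [← OmegaLib.app_map D hVU, map_zero]
  exact congrArg (OmegaSh.strSect X V) (hzero ⟨V, hV⟩ _)

end Groth.Agent.InfAut29
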