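import Groth.Agent.InfAut29.Auto

/-!
# Vector fields give automorphisms of the trivial first order deformation
-/

set_option autoImplicit false
set_option backward.isDefEq.respectTransparency.types false
set_option backward.isDefEq.respectTransparency false

universe u

open CategoryTheory CategoryTheory.Limits AlgebraicGeometry TopologicalSpace Opposite

noncomputable section

namespace Groth.Agent.InfAut29

open ArtGlobal29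

/-- A point lifting morphism is determined by its effect on affine opens. -/
theorem toSpecΓ_natural {P : Scheme.{u}} {U V : P.Opens} (h : U ≤ V) :
    P.homOfLE h ≫ V.toSpecΓ = U.toSpecΓ ≫ Spec.map (P.presheaf.map (homOfLE h).op) := by
  rw [Scheme.Opens.toSpecΓ_SpecMap_presheaf_map]

section Glue

variable {P X : Scheme.{u}} (q : P ⟶ X) (σ : ∀ U : X.affineOpens, Γ(X, U.1) ⟶ Γ(P, q ⁻¹ᵁ U.1))
  (hσ : ∀ (U V : X.affineOpens) (h : U.1 ≤ V.1),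
    σ V ≫ P.presheaf.map (homOfLE (q.preimage_mono h)).op = X.presheaf.map (homOfLE h).op ≫ σ U)

/-- The morphism on one chart. -/
def chart (U : X.affineOpens) : (q ⁻¹ᵁ U.1).toScheme ⟶ X :=
  (q ⁻¹ᵁ U.1).toSpecΓ ≫ Spec.map (σ U) ≫ U.2.fromSpec

include hσ in
theorem chart_res (U V : X.affineOpens) (h : U.1 ≤ V.1) :
    P.homOfLE (q.preimage_mono h) ≫ chart q σ V = chart q σ U := by
  unfold chart
  rw [← Category.assoc, toSpecΓ_natural, Category.assoc, ← Spec.map_comp_assoc, hσ U V h, Spec.map_comp_assoc,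
    V.2.map_fromSpec U.2 (homOfLE h).op]

theorem iSup_preimage_affineOpens : IsOpenCover (fun U : X.affineOpens => q ⁻¹ᵁ U.1) := by
  refine eq_top_iff.2 fun p _ => ?_
  obtain ⟨U, hU, hpU, -⟩ := Opens.isBasis_iff_nbhd.mp X.isBasis_affineOpens (Opens.mem_top (q p))
  exact Opens.mem_iSup.2 ⟨⟨U, hU⟩, hpU⟩

include hσ in
theorem exists_glue : ∃ g : P ⟶ X, ∀ U : X.affineOpens, (q ⁻¹ᵁ U.1).ι ≫ g = chart q σ U := by
  let 𝒰 := P.openCoverOfIsOpenCover _ (iSup_preimage_affineOpens q)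
  refine ⟨𝒰.glueMorphisms (fun U => chart q σ U) fun U V => ?_, fun U => 𝒰.ι_glueMorphisms _ _ U⟩
  have key : ∀ (Z : Scheme.{u}) (a : Z ⟶ (q ⁻¹ᵁ U.1).toScheme) (b : Z ⟶ (q ⁻¹ᵁ V.1).toScheme),
      a ≫ (q ⁻¹ᵁ U.1).ι = b ≫ (q ⁻¹ᵁ V.1).ι → a ≫ chart q σ U = b ≫ chart q σ V := by
    intro Z a b hab
    refine Scheme.hom_ext_of_forall _ _ fun z => ?_
    have hzU : q ((a ≫ (q ⁻¹ᵁ U.1).ι) z) ∈ U.1 := (a z).2
    have hzV : q ((a ≫ (q ⁻¹ᵁ U.1).ι) z) ∈ V.1 := by rw [hab]; exact (b z).2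
    obtain ⟨W, hW, hzW, hWle⟩ := Opens.isBasis_iff_nbhd.mp X.isBasis_affineOpens
      (show q ((a ≫ (q ⁻¹ᵁ U.1).ι) z) ∈ U.1 ⊓ V.1 from ⟨hzU, hzV⟩)
    refine ⟨(a ≫ (q ⁻¹ᵁ U.1).ι) ⁻¹ᵁ (q ⁻¹ᵁ W), hzW, ?_⟩
    let c : ((a ≫ (q ⁻¹ᵁ U.1).ι) ⁻¹ᵁ (q ⁻¹ᵁ W)).toScheme ⟶ (q ⁻¹ᵁ W).toScheme :=
      (a ≫ (q ⁻¹ᵁ U.1).ι).resLE _ _ le_rfl
    have hca : ((a ≫ (q ⁻¹ᵁ U.1).ι) ⁻¹ᵁ (q ⁻¹ᵁ W)).ι ≫ a =
        c ≫ P.homOfLE (q.preimage_mono (hWle.trans inf_le_left)) := by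
      rw [← cancel_mono (q ⁻¹ᵁ U.1).ι]
      simp [c]
    have hcb : ((a ≫ (q ⁻¹ᵁ U.1).ι) ⁻¹ᵁ (q ⁻¹ᵁ W)).ι ≫ b =
        c ≫ P.homOfLE (q.preimage_mono (hWle.trans inf_le_right)) := by
      rw [← cancel_mono (q ⁻¹ᵁ V.1).ι]
      simp [c, hab]
    rw [reassoc_of% hca, reassoc_of% hcb, chart_res q σ hσ ⟨W, hW⟩ U (hWle.trans inf_le_left),
      chart_res q σ hσ ⟨W, hW⟩ V (hWle.trans inf_le_right)]
  exact key _ _ _ pullback.condition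

theorem comp_eq_of_charts {Z : Scheme.{u}} (g h : P ⟶ Z)
    (H : ∀ U : X.affineOpens, (q ⁻¹ᵁ U.1).ι ≫ g = (q ⁻¹ᵁ U.1).ι ≫ h) : g = h :=
  Scheme.Cover.hom_ext (P.openCoverOfIsOpenCover _ (iSup_preimage_affineOpens q)) _ _ H

theorem preimage_le_of_chart {g : P ⟶ X} {U : X.affineOpens} (hg : (q ⁻¹ᵁ U.1).ι ≫ g = chart q σ U) :
    q ⁻¹ᵁ U.1 ≤ g ⁻¹ᵁ U.1 := fun p hp => by
  show g p ∈ U.1
  have h2 := congrArg (fun φ : (q ⁻¹ᵁ U.1).toScheme ⟶ X => φ ⟨p, hp⟩) hg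
  simp only [Scheme.Hom.comp_apply, Scheme.Opens.ι_apply] at h2
  rw [h2]
  have : U.2.fromSpec (Spec.map (σ U) ((q ⁻¹ᵁ U.1).toSpecΓ ⟨p, hp⟩)) ∈ (Set.range U.2.fromSpec) := ⟨_, rfl⟩
  rwa [U.2.range_fromSpec] at this

theorem appLE_of_chart [IsAffineHom q] {g : P ⟶ X} {U : X.affineOpens} (hg : (q ⁻¹ᵁ U.1).ι ≫ g = chart q σ U)
    (e : q ⁻¹ᵁ U.1 ≤ g ⁻¹ᵁ U.1) : g.appLE U.1 (q ⁻¹ᵁ U.1) e = σ U := by
  have hU' : IsAffineOpen (q ⁻¹ᵁ U.1) := U.2.preimage q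
  have h1 := IsAffineOpen.SpecMap_appLE_fromSpec g U.2 hU' e
  have h2 : Spec.map (σ U) ≫ U.2.fromSpec = hU'.fromSpec ≫ g := by
    rw [show hU'.fromSpec = hU'.isoSpec.inv ≫ (q ⁻¹ᵁ U.1).ι from rfl, Category.assoc, hg, chart,
      IsAffineOpen.isoSpec_inv_toSpecΓ_assoc]
  rw [← h1, cancel_mono] at h2
  exact (Spec.map_injective h2).symm

end Glue

end Groth.Agent.InfAut29
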