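import Groth.Agent.DeformSqZero.Torsor

/-!
# Automorphisms congruent to the identity modulo a power of the maximal ideal give derivations
-/

set_option autoImplicit false

universe u

open TensorProduct IsLocalRing

namespace Groth.Agent.InfAut29

open DeformSqZero

variable {A : Type u} [CommRing A] [IsLocalRing A] {B B₀ : Type u} [CommRing B] [Algebra A B] [CommRing B₀]
  (q : B →+* B₀) (hq : (maximalIdeal A).map (algebraMap A B) ≤ RingHom.ker q)

/-- The map `A/m → B₀`. -/
noncomputable def rho : A ⧸ maximalIdeal A →+* B₀ :=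
  Ideal.Quotient.lift _ (q.comp (algebraMap A B)) fun _ ha => hq (Ideal.mem_map_of_mem _ ha)

theorem rho_mk (a : A) : rho q hq (Ideal.Quotient.mk _ a) = q (algebraMap A B a) := Ideal.Quotient.lift_mk _ _ _

variable {J : Ideal A} (lam : ↥J →ₗ[A] A ⧸ maximalIdeal A)

/-- Contraction of `B ⊗ J` with a functional on `J`. -/
noncomputable def L : B ⊗[A] ↥J →+ B₀ :=
  TensorProduct.liftAddHom
    { toFun := fun b =>
        { toFun := fun j => q b * rho q hq (lam j)
          map_zero' := by simp
          map_add' := fun j j' => by simp [mul_add] }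
      map_zero' := by ext; simp
      map_add' := fun b b' => by ext; simp [add_mul] }
    fun a b j => by
      simp only [AddMonoidHom.coe_mk, ZeroHom.coe_mk, map_smul]
      rw [Algebra.smul_def a (lam j), Algebra.smul_def a b, map_mul, map_mul, Ideal.Quotient.algebraMap_eq, rho_mk]
      ring

theorem L_tmul (b : B) (j : J) : L q hq lam (b ⊗ₜ j) = q b * rho q hq (lam j) := rfl

theorem L_smul (b : B) (z : B ⊗[A] ↥J) : L q hq lam (b • z) = q b * L q hq lam z := by
  induction z using TensorProduct.induction_on with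
  | zero => simp
  | add x y hx hy => rw [smul_add, map_add, map_add, hx, hy, mul_add]
  | tmul c j => rw [TensorProduct.smul_tmul', L_tmul, L_tmul, smul_eq_mul, map_mul, mul_assoc]

theorem exists_delta [Module.Flat A B] (hsurj : Function.Surjective q)
    (hker : RingHom.ker q ≤ (maximalIdeal A).map (algebraMap A B)) (φ : B →ₐ[A] B)
    (h1 : ∀ b, q (φ b) = q b) (hφ : ∀ b, φ b - b ∈ J.map (algebraMap A B)) :
    ∃ δ : B₀ →+ B₀, (∀ x y, δ (x * y) = x * δ y + y * δ x) ∧ (∀ a, δ (q (algebraMap A B a)) = 0) ∧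
      ∀ b z, mulMap J B z = φ b - b → δ (q b) = L q hq lam z := by
  choose ζ hζ using fun b => range_mulMap J B _ (hφ b)
  have hinj := mulMap_injective (A := A) (J := J) (B := B)
  let d : B → B₀ := fun b => L q hq lam (ζ b)
  have huniq : ∀ b z, mulMap J B z = φ b - b → d b = L q hq lam z := fun b z hz => by
    show L q hq lam (ζ b) = _
    rw [hinj ((hζ b).trans hz.symm)]
  have hadd : ∀ a b, d (a + b) = d a + d b := fun a b => by
    rw [huniq _ (ζ a + ζ b) (by rw [map_add, hζ, hζ, map_add]; ring), map_add]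
  have hmul : ∀ a b, d (a * b) = q a * d b + q b * d a := fun a b => by
    rw [huniq _ (φ a • ζ b + b • ζ a) (by rw [map_add, map_smul, map_smul, hζ, hζ, map_mul, smul_eq_mul, smul_eq_mul]; ring),
      map_add, L_smul, L_smul, h1]
  have halg : ∀ a, d (algebraMap A B a) = 0 := fun a => by
    rw [huniq _ 0 (by simp), map_zero]
  have hzero : ∀ b, q b = 0 → d b = 0 := by
    intro b hb
    refine Submodule.span_induction (p := fun y _ => d y = 0) ?_ ?_ ?_ ?_ (hker hb)
    · rintro _ ⟨c, -, rfl⟩; exact halg c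
    · simpa using halg 0
    · intro a b _ _ ha hb; rw [hadd, ha, hb, add_zero]
    · intro r y hy hy0
      rw [smul_eq_mul, hmul, hy0, mul_zero, zero_add, RingHom.mem_ker.1 (hq hy), zero_mul]
  choose sec hsec using hsurj
  have hd : ∀ b, d (sec (q b)) = d b := fun b => by
    have h := hadd (sec (q b) - b) b
    rw [sub_add_cancel, hzero (sec (q b) - b) (by rw [map_sub, hsec, sub_self]), zero_add] at h
    exact h
  refine ⟨AddMonoidHom.mk' (fun x => d (sec x)) (fun x y => ?_), fun x y => ?_, fun a => ?_, fun b z hz => ?_⟩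
  · conv_lhs => rw [← hsec x, ← hsec y, ← map_add]
    rw [hd, hadd]
  · show d (sec (x * y)) = x * d (sec y) + y * d (sec x)
    conv_lhs => rw [← hsec x, ← hsec y, ← map_mul]
    rw [hd, hmul, hsec, hsec]
  · show d (sec (q (algebraMap A B a))) = 0
    rw [hd, halg]
  · show d (sec (q b)) = _
    rw [hd, huniq b z hz]

theorem natural {B' B₀' : Type u} [CommRing B'] [Algebra A B'] [CommRing B₀'] (q' : B' →+* B₀')
    (hq' : (maximalIdeal A).map (algebraMap A B') ≤ RingHom.ker q') (ψ : B →ₐ[A] B') (ψ₀ : B₀ →+* B₀')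
    (hc : ∀ b, ψ₀ (q b) = q' (ψ b)) (z : B ⊗[A] ↥J) :
    ∃ z', mulMap J B' z' = ψ (mulMap J B z) ∧ L q' hq' lam z' = ψ₀ (L q hq lam z) := by
  induction z using TensorProduct.induction_on with
  | zero => exact ⟨0, by simp, by simp⟩
  | add x y hx hy =>
    obtain ⟨x', h1, h2⟩ := hx; obtain ⟨y', h3, h4⟩ := hy
    exact ⟨x' + y', by simp [h1, h3], by simp [h2, h4]⟩
  | tmul b j =>
    refine ⟨ψ b ⊗ₜ j, by rw [mulMap_tmul, mulMap_tmul, map_mul, AlgHom.commutes], ?_⟩
    rw [L_tmul, L_tmul, map_mul, hc]
    congr 1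
    obtain ⟨a, ha⟩ := Ideal.Quotient.mk_surjective (lam j)
    rw [← ha, rho_mk, rho_mk, hc, AlgHom.commutes]

theorem mem_step [IsNoetherianRing A] (hker : RingHom.ker q ≤ (maximalIdeal A).map (algebraMap A B))
    (z : B ⊗[A] ↥J) (h : ∀ l : ↥J →ₗ[A] A ⧸ maximalIdeal A, L q hq l z = 0) :
    mulMap J B z ∈ (maximalIdeal A * J).map (algebraMap A B) := by
  let S : Submodule A ↥J := maximalIdeal A • ⊤
  let V := ↥J ⧸ S
  letI : Field (A ⧸ maximalIdeal A) := Ideal.Quotient.field _
  haveI : Module.Finite A ↥J := Module.Finite.iff_fg.2 (IsNoetherian.noetherian J)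
  haveI : Module.Finite (A ⧸ maximalIdeal A) V := Module.Finite.of_restrictScalars_finite A _ V
  let bas := Module.finBasis (A ⧸ maximalIdeal A) V
  choose jl hjl using fun i => S.mkQ_surjective (bas i)
  choose al hal using fun (v : V) i => Ideal.Quotient.mk_surjective (I := maximalIdeal A) (bas.repr v i)
  let lc : ∀ i, ↥J →ₗ[A] A ⧸ maximalIdeal A := fun i => ((bas.coord i).restrictScalars A).comp S.mkQ
  have key : ∀ w : B ⊗[A] ↥J, ∃ c : _ → B, mulMap J B w - ∑ i, c i * algebraMap A B (jl i) ∈
      (maximalIdeal A * J).map (algebraMap A B) ∧ ∀ i, L q hq (lc i) w = q (c i) := by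
    intro w
    induction w using TensorProduct.induction_on with
    | zero => exact ⟨0, by simp, by simp⟩
    | add x y hx hy =>
      obtain ⟨c, h1, h2⟩ := hx; obtain ⟨c', h3, h4⟩ := hy
      refine ⟨c + c', ?_, fun i => by simp [h2, h4]⟩
      convert add_mem h1 h3 using 1
      rw [map_add]
      simp only [Pi.add_apply, add_mul, Finset.sum_add_distrib]
      ring
    | tmul b j =>
      refine ⟨fun i => b * algebraMap A B (al (S.mkQ j) i), ?_, fun i => ?_⟩
      · have hv : S.mkQ (j - ∑ i, al (S.mkQ j) i • jl i) = 0 := by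
          rw [map_sub, map_sum]
          simp only [map_smul, hjl]
          rw [sub_eq_zero]
          conv_lhs => rw [← bas.sum_repr (S.mkQ j)]
          refine Finset.sum_congr rfl fun i _ => ?_
          rw [← hal (S.mkQ j) i]
          rfl
        rw [Submodule.mkQ_apply, Submodule.Quotient.mk_eq_zero] at hv
        have hv' : ((j - ∑ i, al (S.mkQ j) i • jl i : ↥J) : A) ∈ maximalIdeal A * J := by
          have := Submodule.mem_map_of_mem (f := Submodule.subtype J) hv
          rwa [Submodule.map_smul'', Submodule.map_top, Submodule.range_subtype, Submodule.subtype_apply,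
            Ideal.smul_eq_mul] at this
        have := Ideal.mul_mem_left _ b (Ideal.mem_map_of_mem (algebraMap A B) hv')
        convert this using 1
        rw [mulMap_tmul]
        simp only [AddSubgroupClass.coe_sub, AddSubmonoidClass.coe_finsetSum, SetLike.val_smul, smul_eq_mul,
          map_sub, map_sum, map_mul, mul_sub, Finset.mul_sum, mul_comm (algebraMap A B (j : A)) b, mul_assoc]
      · rw [L_tmul, map_mul, ← rho_mk q hq, hal]
        rfl
  obtain ⟨c, h1, h2⟩ := key z
  have : ∑ i, c i * algebraMap A B (jl i) ∈ (maximalIdeal A * J).map (algebraMap A B) := by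
    refine Ideal.sum_mem _ fun i _ => ?_
    rw [Ideal.map_mul]
    exact Ideal.mul_mem_mul (hker ((h2 i).symm.trans (h (lc i)))) (Ideal.mem_map_of_mem _ (jl i).2)
  simpa using add_mem h1 this

end Groth.Agent.InfAut29
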